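import Mathlib
import Cfsg.Prelude.Def_OddOrderLocal
import Cfsg.Agent.S0025
import Cfsg.Agent.S0033
import Cfsg.Agent.S1392
import Cfsg.Agent.S1396
import Cfsg.Agent.Lib.Helper35.BG.Basic
import Cfsg.Agent.Lib.Helper48.Generation
import Cfsg.Agent.Lib.Helper74.BG.Tools
import Cfsg.Agent.Lib.Helper31.BG.SigmaHall
import Cfsg.Agent.Lib.Helper15.BG.Signalizer

/-!
# Bender–Glauberman, Section 11 (11.1–11.4): exceptional maximal subgroups

Setting (Hypothesis 11.1): `M` is a maximal subgroup of the minimal simple group `G` of odd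
order, `p ∉ σ(M)`, `A ≤ M` is elementary abelian of order `p ^ 2`, `A₀ ≤ A` has order `p` and
`N(A₀) ≤ M`.  The transitivity hypothesis for `A` is taken as a hypothesis `hTH`
(`transitivityHypothesis_of_max` derives it).

* `sec11_1b`: BG 11.1(b).
* `sec11_2a`, `sec11_2b`: BG 11.2.
* `sec11_3`: `M_σ` is nilpotent.
* `sec11_4`: uniqueness of `M` among the maximal subgroups `H ≥ A` with `M_σ ∩ H_σ ≠ 1`.
-/

set_option autoImplicit false

namespace Cfsg.Agent.Lib.Helper25.BG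

open Cfsg Cfsg.Agent.Lib.Helper46 Cfsg.Agent.Lib.Helper35.BG

/-! ### small tools -/

theorem cj_mul {G : Type*} [Group G] (H : Subgroup G) (a b : G) :
    (H.map (MulAut.conj b).toMonoidHom).map (MulAut.conj a).toMonoidHom =
      H.map (MulAut.conj (a * b)).toMonoidHom :=
  Cfsg.Agent.Lib.Helper35.BG.map_conj_mul H a b

theorem cj_one {G : Type*} [Group G] (H : Subgroup G) :
    H.map (MulAut.conj (1 : G)).toMonoidHom = H :=
  Cfsg.Agent.Lib.Helper35.BG.map_conj_one H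

theorem maxInv_of_sylow {G : Type*} [Group G] [Finite G] {q : ℕ} [hq : Fact q.Prime]
    {A Q : Subgroup G} (hS : IsSylowIn q Q ⊤) (hA : A ≤ Subgroup.normalizer (Q : Set G)) :
    Q ∈ maxInvSubgroups ⊤ A {q} := by
  refine ⟨⟨le_top, ?_, hA⟩, ?_⟩
  · intro r hr hdvd
    rw [hS.2] at hdvd
    exact (Nat.prime_dvd_prime_iff_eq hr hq.out).mp (hr.dvd_of_dvd_pow hdvd)
  · intro R hR hQR
    have hRq : IsPGroup q R := Cfsg.Agent.Lib.Helper15.BG.isPGroup_of_mem_invSubgroups hR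
    exact sylIn_eq_of_le hS hRq le_top hQR

theorem sylIn_top_of_sigmaCore {G : Type*} [Group G] [Finite G] {M : Subgroup G}
    (hHall : IsPiHall (sigma M) (sigmaCore M)) {q : ℕ} [hq : Fact q.Prime] (hqσ : q ∈ sigma M)
    {Q : Subgroup G} (hQ : IsSylowIn q Q (sigmaCore M)) : IsSylowIn q Q ⊤ := by
  refine ⟨le_top, ?_⟩
  rw [hQ.2, Subgroup.card_top]
  congr 1
  have h1 : Nat.card (sigmaCore M) * (sigmaCore M).index = Nat.card G :=
    Subgroup.card_mul_index _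
  rw [← h1, Nat.factorization_mul Nat.card_pos.ne' Subgroup.index_ne_zero_of_finite]
  simp [Nat.factorization_eq_zero_of_not_dvd (hHall.2 q hq.out hqσ)]

theorem sylIn_ne_bot {G : Type*} [Group G] [Finite G] {q : ℕ} [hq : Fact q.Prime]
    {E H : Subgroup G} (h : IsSylowIn q E H) (hdvd : q ∣ Nat.card H) : E ≠ ⊥ := by
  intro hE
  have h1 := h.2
  rw [hE, Subgroup.card_bot] at h1
  have hpos : 0 < (Nat.card H).factorization q :=
    Nat.Prime.factorization_pos_of_dvd hq.out Nat.card_pos.ne' hdvd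
  have := Nat.one_lt_pow hpos.ne' hq.out.one_lt
  omega

theorem centralizer_singleton_le_zpowers {G : Type*} [Group G] (u : G) :
    Subgroup.centralizer ({u} : Set G) ≤
      Subgroup.centralizer ((Subgroup.zpowers u : Subgroup G) : Set G) := by
  intro x hx
  rw [Subgroup.mem_centralizer_iff] at hx ⊢
  intro y hy
  obtain ⟨n, rfl⟩ := Subgroup.mem_zpowers_iff.mp hy
  have h1 : Commute u x := hx u (Set.mem_singleton u)
  exact (h1.zpow_left n).eq

theorem zpowers_eq_of_card_prime {G : Type*} [Group G] {p : ℕ} [hp : Fact p.Prime]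
    {X : Subgroup G} (hX : Nat.card X = p) {a : G} (ha : a ∈ X) (ha1 : a ≠ 1) :
    Subgroup.zpowers a = X := by
  haveI : Finite X := Nat.finite_of_card_ne_zero (by rw [hX]; exact hp.out.ne_zero)
  have hle : Subgroup.zpowers a ≤ X := Subgroup.zpowers_le.mpr ha
  have hdvd : Nat.card (Subgroup.zpowers a) ∣ p := hX ▸ Subgroup.card_dvd_of_le hle
  rcases (Nat.dvd_prime hp.out).mp hdvd with h | h
  · exfalso
    apply ha1
    have h2 := Subgroup.card_eq_one.mp h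
    exact Subgroup.zpowers_eq_bot.mp h2
  · exact Subgroup.eq_of_le_of_card_ge hle (by rw [h, hX])

/-- Conjugation by an element normalizing `N`, as an endomorphism of `N`. -/
def conjNormHom {G : Type*} [Group G] (N : Subgroup G) (a : G)
    (ha : a ∈ Subgroup.normalizer (N : Set G)) : N →* N where
  toFun y := ⟨a * y * a⁻¹, (Subgroup.mem_normalizer_iff.mp ha y).mp y.2⟩
  map_one' := by ext; simp
  map_mul' x y := by ext; simp [mul_assoc]

theorem conjNormHom_iterate {G : Type*} [Group G] (N : Subgroup G) (a : G)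
    (ha : a ∈ Subgroup.normalizer (N : Set G)) (n : ℕ) (y : N) :
    (((⇑(conjNormHom N a ha))^[n] y : N) : G) = a ^ n * y * (a ^ n)⁻¹ := by
  induction n generalizing y with
  | zero => simp
  | succ n ih =>
    rw [Function.iterate_succ_apply, ih]
    simp only [conjNormHom, MonoidHom.coe_mk, OneHom.coe_mk]
    rw [pow_succ]
    group

/-- Thompson's theorem in subgroup form. -/
theorem nilpotent_of_fpf_elt {G : Type*} [Group G] [Finite G] (N : Subgroup G) (a : G)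
    (ha : a ∈ Subgroup.normalizer (N : Set G)) {p : ℕ} (hp : p.Prime) (hap : a ^ p = 1)
    (hfpf : ∀ y ∈ N, a * y = y * a → y = 1) : Group.IsNilpotent N := by
  refine Cfsg.Agent.S0033.fpf_nilpotent_of_iterate (conjNormHom N a ha) ?_ hp ?_
  · intro y hy
    have h1 : a * (y : G) * a⁻¹ = y := congrArg Subtype.val hy
    have h2 : a * (y : G) = y * a := by
      calc a * (y : G) = (a * (y : G) * a⁻¹) * a := by group
        _ = y * a := by rw [h1]
    have := hfpf y y.2 h2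
    exact Subtype.ext this
  · funext y
    apply Subtype.ext
    rw [conjNormHom_iterate, hap]
    simp

theorem not_isCyclic_of_ea_sq {G : Type*} [Group G] {p : ℕ} [hp : Fact p.Prime] {A : Subgroup G}
    (hAe : IsElementaryAbelian p A) (hA2 : Nat.card A = p ^ 2) : ¬ IsCyclic A := by
  intro hc
  have h1 : Monoid.exponent A = Nat.card A := IsCyclic.exponent_eq_card
  have h2 : Monoid.exponent A ∣ p := by
    apply Monoid.exponent_dvd_of_forall_pow_eq_one
    intro a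
    apply Subtype.ext
    rw [Subgroup.coe_pow, Subgroup.coe_one]
    exact hAe.2 a a.2
  rw [h1, hA2] at h2
  have h3 := Nat.le_of_dvd hp.out.pos h2
  have h4 := hp.out.two_le
  nlinarith

/-- The transitivity hypothesis for a maximal elementary abelian subgroup of order `p ^ 2`, given
`p`-length one for the proper subgroups. -/
theorem transitivityHypothesis_of_max {G : Type*} [Group G] [Finite G]
    (hG : IsMinSimpleOddOrder G) (p : ℕ) [hp : Fact p.Prime]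
    (h1410 : ∀ H : Subgroup G, H ≠ ⊤ → PLengthLE p 1 H)
    (A : Subgroup G) (hAe : IsElementaryAbelian p A) (hA2 : Nat.card A = p ^ 2)
    (hAmax : ∀ B : Subgroup G, IsElementaryAbelian p B → A ≤ B → B = A) :
    TransitivityHypothesis A := by
  have hAp : IsPGroup p A := IsPGroup.of_card hA2
  have hpG : p ∣ Nat.card G :=
    (Dvd.intro_left p (by rw [hA2]; ring : p * p = Nat.card A)).trans
      (Subgroup.card_subgroup_dvd_card A)
  exact Cfsg.Agent.S1396.result hG p hpG A hAp hAe.1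
    (Or.inl ⟨fun x hx => ⟨Cfsg.Agent.Lib.Helper15.BG.mem_of_ea_max hAe hAmax x hx,
      fun hxA => hAe.2 x hxA⟩, h1410⟩)

/-! ### BG 11.1(b) -/

theorem sec11_1b {G : Type*} [Group G] [Finite G] (hG : IsMinSimpleOddOrder G)
    (h1404 : ∀ (M : Subgroup G), IsCoatom M → ∀ (p : ℕ) [Fact p.Prime], p ∈ sigma M →
      ∀ (X : Subgroup G), IsPGroup p X → X ≠ ⊥ → X ≤ M →
      (∀ g : G, X.map (MulAut.conj g).toMonoidHom ≤ M →
        ∃ m ∈ M, ∃ c ∈ Subgroup.centralizer (X : Set G), g = m * c) ∧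
      Subgroup.normalizer (X : Set G) =
        (M ⊓ Subgroup.normalizer (X : Set G)) ⊔ Subgroup.centralizer (X : Set G))
    (M : Subgroup G) (hM : IsCoatom M) (p : ℕ) [hp : Fact p.Prime] (hpσ : p ∉ sigma M)
    (A : Subgroup G) (hAM : A ≤ M) (hAe : IsElementaryAbelian p A) (hA2 : Nat.card A = p ^ 2)
    (hTH : TransitivityHypothesis A)
    (hCA : Subgroup.centralizer (A : Set G) ≤ M)
    (g : G) (hg : g ∉ M)
    (q : ℕ) [hq : Fact q.Prime] (Q1 Q2 : Subgroup G) (hQ1 : Q1 ≤ sigmaCore M)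
    (hQ2 : Q2 ≤ (sigmaCore M).map (MulAut.conj g).toMonoidHom)
    (hS1 : IsSylowIn q Q1 ⊤) (hS2 : IsSylowIn q Q2 ⊤)
    (hA1 : A ≤ Subgroup.normalizer (Q1 : Set G)) (hA2' : A ≤ Subgroup.normalizer (Q2 : Set G))
    (X : Subgroup G) (hXA : X ≤ A) (hX : X ≠ ⊥)
    (h1 : Q1 ⊓ Subgroup.centralizer (X : Set G) ≠ ⊥) :
    Q2 ⊓ Subgroup.centralizer (X : Set G) = ⊥ := by
  by_contra h2
  have hqp : q.Prime := hq.out
  have hQ1ne : Q1 ≠ ⊥ := fun h => h1 (by rw [h]; exact bot_inf_eq _)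
  have hQ2ne : Q2 ≠ ⊥ := fun h => h2 (by rw [h]; exact bot_inf_eq _)
  have hQ1q : IsPGroup q Q1 := sylIn_isPGroup hS1
  have hQ2q : IsPGroup q Q2 := sylIn_isPGroup hS2
  have hqσ : q ∈ sigma M := by
    apply Cfsg.Agent.Lib.Helper31.BG.sigmaCore_isPi M q hqp
    have hd : q ∣ Nat.card Q1 := by
      obtain ⟨n, hn⟩ := IsPGroup.iff_card.mp hQ1q
      rw [hn]
      apply dvd_pow_self
      rintro rfl
      rw [pow_zero] at hn
      exact hQ1ne (Subgroup.card_eq_one.mp hn)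
    exact hd.trans (Subgroup.card_dvd_of_le hQ1)
  have hqA : ¬ q ∣ Nat.card A := by
    rw [hA2]
    intro h
    have : q = p := (Nat.prime_dvd_prime_iff_eq hqp hp.out).mp (hqp.dvd_of_dvd_pow h)
    exact hpσ (this ▸ hqσ)
  have hXM : X ≤ M := hXA.trans hAM
  have hXtop : X ≠ ⊤ := fun h => hM.1 (top_le_iff.mp (h ▸ hXM))
  have hCX : Subgroup.centralizer (X : Set G) ≠ ⊤ := fun h =>
    normalizer_ne_top hG hX hXtop (top_le_iff.mp (h ▸ centralizer_le_normalizer' X))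
  have hACX : A ≤ Subgroup.centralizer (X : Set G) := by
    intro a ha
    rw [Subgroup.mem_centralizer_iff]
    intro x hx
    exact congrArg Subtype.val (hAe.1.is_comm.comm ⟨x, hXA hx⟩ ⟨a, ha⟩)
  obtain ⟨k, hk, hQk⟩ := Cfsg.Agent.S1392.result hG A hTH q hqp hqA Q1 Q2
    (maxInv_of_sylow hS1 hA1) (maxInv_of_sylow hS2 hA2') (Subgroup.centralizer (X : Set G)) hCX hACX
    (by rwa [inf_comm]) (by rwa [inf_comm])
  have hkM : k ∈ M := hCA (Subgroup.map_subtype_le _ hk)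
  have hσM : sigmaCore M ≤ M := Cfsg.Agent.Lib.Helper31.BG.sigmaCore_le M
  have hQ2M : Q2 ≤ M := by
    rw [hQk]
    rintro _ ⟨y, hy, rfl⟩
    exact M.mul_mem (M.mul_mem hkM (hσM (hQ1 hy))) (M.inv_mem hkM)
  set X' : Subgroup G := Q2.map (MulAut.conj g⁻¹).toMonoidHom with hX'
  have hX'σ : X' ≤ sigmaCore M := by
    have h3 : X' ≤ ((sigmaCore M).map (MulAut.conj g).toMonoidHom).map
        (MulAut.conj g⁻¹).toMonoidHom := Subgroup.map_mono hQ2
    rwa [cj_mul, inv_mul_cancel, cj_one] at h3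
  have hX'g : X'.map (MulAut.conj g).toMonoidHom = Q2 := by
    rw [hX', cj_mul, mul_inv_cancel, cj_one]
  have hX'top : IsSylowIn q X' ⊤ := sylIn_of_card_eq hS2 le_top (card_map_conj Q2 g⁻¹)
  have hX'M : IsSylowIn q X' M := sylIn_mono hX'top (hX'σ.trans hσM) le_top
  have hX'ne : X' ≠ ⊥ := by
    intro h
    apply hQ2ne
    rw [← hX'g, h, Subgroup.map_bot]
  obtain ⟨m, hm, c, hc, hgmc⟩ := (h1404 M hM q hqσ X' (sylIn_isPGroup hX'top) hX'ne
    (hX'σ.trans hσM)).1 g (by rw [hX'g]; exact hQ2M)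
  have hcM : c ∈ M := normalizer_le_of_sigma hqσ hX'M (centralizer_le_normalizer' X' hc)
  exact hg (hgmc ▸ M.mul_mem hm hcM)

/-! ### BG 11.2 -/

theorem sec11_2a {G : Type*} [Group G] [Finite G] (hG : IsMinSimpleOddOrder G)
    (h1404 : ∀ (M : Subgroup G), IsCoatom M → ∀ (p : ℕ) [Fact p.Prime], p ∈ sigma M →
      ∀ (X : Subgroup G), IsPGroup p X → X ≠ ⊥ → X ≤ M →
      (∀ g : G, X.map (MulAut.conj g).toMonoidHom ≤ M →
        ∃ m ∈ M, ∃ c ∈ Subgroup.centralizer (X : Set G), g = m * c) ∧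
      Subgroup.normalizer (X : Set G) =
        (M ⊓ Subgroup.normalizer (X : Set G)) ⊔ Subgroup.centralizer (X : Set G))
    (M : Subgroup G) (hM : IsCoatom M)
    (hHallM : IsPiHallOf (sigma M) (sigmaCore M) M) (hHallG : IsPiHall (sigma M) (sigmaCore M))
    (p : ℕ) [hp : Fact p.Prime] (hpσ : p ∉ sigma M)
    (A : Subgroup G) (hAM : A ≤ M) (hAe : IsElementaryAbelian p A) (hA2 : Nat.card A = p ^ 2)
    (hTH : TransitivityHypothesis A)
    (hCA : Subgroup.centralizer (A : Set G) ≤ M)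
    (g : G) (hg : g ∉ M) (hAg : A ≤ M.map (MulAut.conj g).toMonoidHom) :
    sigmaCore M ⊓ M.map (MulAut.conj g).toMonoidHom = ⊥ := by
  by_contra hD
  have hpp : p.Prime := hp.out
  have hKM : sigmaCore M ≤ M := Cfsg.Agent.Lib.Helper31.BG.sigmaCore_le M
  have hMK : M ≤ Subgroup.normalizer ((sigmaCore M : Subgroup G) : Set G) :=
    Cfsg.Agent.Lib.Helper31.BG.le_normalizer_sigmaCore M
  have hAK : A ≤ Subgroup.normalizer ((sigmaCore M : Subgroup G) : Set G) := hAM.trans hMK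
  have hpK : ¬ p ∣ Nat.card (sigmaCore M) := fun h =>
    hpσ (Cfsg.Agent.Lib.Helper31.BG.sigmaCore_isPi M p hpp h)
  have hAp : IsPGroup p A := IsPGroup.of_card hA2
  set D : Subgroup G := sigmaCore M ⊓ M.map (MulAut.conj g).toMonoidHom with hDdef
  have hAD : A ≤ Subgroup.normalizer (D : Set G) := by
    intro a ha
    rw [Subgroup.mem_normalizer_iff]
    intro x
    have h1 := Subgroup.mem_normalizer_iff.mp (hAK ha) x
    have h2 := Subgroup.mem_normalizer_iff.mp (Subgroup.le_normalizer (hAg ha)) x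
    rw [hDdef, Subgroup.mem_inf, Subgroup.mem_inf, h1, h2]
  have hDK : D ≤ sigmaCore M := inf_le_left
  have hpD : ¬ p ∣ Nat.card D := fun h => hpK (h.trans (Subgroup.card_dvd_of_le hDK))
  have hcD : Nat.card D ≠ 1 := fun h => hD (Subgroup.card_eq_one.mp h)
  obtain ⟨q, hqp, hqD⟩ := Nat.exists_prime_and_dvd hcD
  haveI hq : Fact q.Prime := ⟨hqp⟩
  have hqσ : q ∈ sigma M :=
    Cfsg.Agent.Lib.Helper31.BG.sigmaCore_isPi M q hqp (hqD.trans (Subgroup.card_dvd_of_le hDK))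
  obtain ⟨Q', hQ'⟩ := Cfsg.Agent.Lib.Helper48.exists_invariant_sylow D A hAp hpD hAD q
  have hDqne : (Q' : Subgroup D).map D.subtype ≠ ⊥ := sylIn_ne_bot (isSylowIn_of_sylow Q') hqD
  generalize hDq : (Q' : Subgroup D).map D.subtype = Dq at hQ' hDqne
  have hDqD : Dq ≤ D := by rw [← hDq]; exact Subgroup.map_subtype_le _
  have hDqq : IsPGroup q Dq := by rw [← hDq]; exact Q'.isPGroup'.map _
  have hDqK : Dq ≤ sigmaCore M := hDqD.trans hDK
  have hDqK₂ : Dq ≤ (sigmaCore M).map (MulAut.conj g).toMonoidHom := by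
    have h1 : Dq.map (MulAut.conj g⁻¹).toMonoidHom ≤ sigmaCore M := by
      apply Cfsg.Agent.Lib.Helper74.BG.le_of_isPiHallOf_of_normal hHallM hMK
      · have h2 : Dq.map (MulAut.conj g⁻¹).toMonoidHom ≤
            (M.map (MulAut.conj g).toMonoidHom).map (MulAut.conj g⁻¹).toMonoidHom :=
          Subgroup.map_mono (hDqD.trans inf_le_right)
        rwa [cj_mul, inv_mul_cancel, cj_one] at h2
      · intro r hr hdvd
        rw [card_map_conj] at hdvd
        obtain ⟨n, hn⟩ := IsPGroup.iff_card.mp hDqq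
        rw [hn] at hdvd
        have : r = q := (Nat.prime_dvd_prime_iff_eq hr hqp).mp (hr.dvd_of_dvd_pow hdvd)
        exact this ▸ hqσ
    have h3 : (Dq.map (MulAut.conj g⁻¹).toMonoidHom).map (MulAut.conj g).toMonoidHom ≤
        (sigmaCore M).map (MulAut.conj g).toMonoidHom := Subgroup.map_mono h1
    rwa [cj_mul, mul_inv_cancel, cj_one] at h3
  have hAsolv : Group.IsSolvable A := Group.isSolvable_of_comm (fun a b => hAe.1.is_comm.comm a b)
  have hcop : (Nat.card A).Coprime (Nat.card (sigmaCore M)) := by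
    rw [hA2]
    exact Nat.Coprime.pow_left 2 ((Nat.Prime.coprime_iff_not_dvd hpp).mpr hpK)
  obtain ⟨P1, hDP1, hAP1⟩ := Cfsg.Agent.S0025.result A (sigmaCore M) hAK hcop (Or.inl hAsolv) q Dq
    hDqK hDqq hQ'
  have hAK₂ : A ≤ Subgroup.normalizer
      (((sigmaCore M).map (MulAut.conj g).toMonoidHom : Subgroup G) : Set G) := by
    rw [normalizer_map_conj]
    exact hAg.trans (Subgroup.map_mono hMK)
  have hcop₂ : (Nat.card A).Coprime
      (Nat.card ((sigmaCore M).map (MulAut.conj g).toMonoidHom : Subgroup G)) := by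
    rw [card_map_conj]; exact hcop
  obtain ⟨P2, hDP2, hAP2⟩ := Cfsg.Agent.S0025.result A
    ((sigmaCore M).map (MulAut.conj g).toMonoidHom) hAK₂ hcop₂ (Or.inl hAsolv) q Dq hDqK₂ hDqq hQ'
  have hS1K := isSylowIn_of_sylow P1
  have hS2K := isSylowIn_of_sylow P2
  have hS1 := sylIn_top_of_sigmaCore hHallG hqσ hS1K
  have hS2 : IsSylowIn q ((P2 : Subgroup _).map
      ((sigmaCore M).map (MulAut.conj g).toMonoidHom).subtype) ⊤ := by
    refine ⟨le_top, ?_⟩
    rw [hS2K.2, card_map_conj, ← hS1K.2]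
    exact hS1.2
  have hex : ∃ u ∈ A, u ≠ 1 ∧ Dq ⊓ Subgroup.centralizer ({u} : Set G) ≠ ⊥ := by
    by_contra hne
    push Not at hne
    apply hDqne
    rw [eq_bot_iff]
    apply Cfsg.Agent.Lib.Helper48.coprime_generation_le Dq A
      (fun x hx y hy => congrArg Subtype.val (hAe.1.is_comm.comm ⟨x, hx⟩ ⟨y, hy⟩))
      hAe.2 (not_isCyclic_of_ea_sq hAe hA2)
      (fun h => hpK (h.trans (Subgroup.card_dvd_of_le hDqK))) hQ' ⊥
    intro u hu hu1
    rw [hne u hu hu1]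
  obtain ⟨u, hu, hu1, hCu⟩ := hex
  have hXA : Subgroup.zpowers u ≤ A := Subgroup.zpowers_le.mpr hu
  have hXne : Subgroup.zpowers u ≠ ⊥ := fun h => hu1 (Subgroup.zpowers_eq_bot.mp h)
  have hle1 := inf_le_inf hDP1 (centralizer_singleton_le_zpowers u)
  have hle2 := inf_le_inf hDP2 (centralizer_singleton_le_zpowers u)
  have hfin := sec11_1b hG h1404 M hM p hpσ A hAM hAe hA2 hTH hCA g hg q _ _
    (Subgroup.map_subtype_le _) (Subgroup.map_subtype_le _) hS1 hS2 hAP1 hAP2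
    (Subgroup.zpowers u) hXA hXne (fun h => hCu (eq_bot_iff.mpr (h ▸ hle1)))
  exact hCu (eq_bot_iff.mpr (hfin ▸ hle2))

theorem sec11_2b {G : Type*} [Group G] [Finite G] (hG : IsMinSimpleOddOrder G)
    (h1404 : ∀ (M : Subgroup G), IsCoatom M → ∀ (p : ℕ) [Fact p.Prime], p ∈ sigma M →
      ∀ (X : Subgroup G), IsPGroup p X → X ≠ ⊥ → X ≤ M →
      (∀ g : G, X.map (MulAut.conj g).toMonoidHom ≤ M →
        ∃ m ∈ M, ∃ c ∈ Subgroup.centralizer (X : Set G), g = m * c) ∧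
      Subgroup.normalizer (X : Set G) =
        (M ⊓ Subgroup.normalizer (X : Set G)) ⊔ Subgroup.centralizer (X : Set G))
    (M : Subgroup G) (hM : IsCoatom M)
    (hHallM : IsPiHallOf (sigma M) (sigmaCore M) M) (hHallG : IsPiHall (sigma M) (sigmaCore M))
    (p : ℕ) [hp : Fact p.Prime] (hpσ : p ∉ sigma M)
    (A : Subgroup G) (hAM : A ≤ M) (hAe : IsElementaryAbelian p A) (hA2 : Nat.card A = p ^ 2)
    (hTH : TransitivityHypothesis A)
    (hCA : Subgroup.centralizer (A : Set G) ≤ M)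
    (A₀ : Subgroup G) (hN : Subgroup.normalizer (A₀ : Set G) ≤ M)
    (g : G) (hg : g ∉ M) (hAg : A ≤ M.map (MulAut.conj g).toMonoidHom) :
    sigmaCore M ⊓ Subgroup.centralizer
      ((A₀.map (MulAut.conj g).toMonoidHom : Subgroup G) : Set G) = ⊥ := by
  have h1 := sec11_2a hG h1404 M hM hHallM hHallG p hpσ A hAM hAe hA2 hTH hCA g hg hAg
  rw [eq_bot_iff, ← h1]
  refine inf_le_inf le_rfl ?_
  refine (centralizer_le_normalizer' _).trans ?_
  rw [normalizer_map_conj]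
  exact Subgroup.map_mono hN

/-! ### BG 11.3 -/

theorem sec11_3 {G : Type*} [Group G] [Finite G] (hG : IsMinSimpleOddOrder G)
    (h1404 : ∀ (M : Subgroup G), IsCoatom M → ∀ (p : ℕ) [Fact p.Prime], p ∈ sigma M →
      ∀ (X : Subgroup G), IsPGroup p X → X ≠ ⊥ → X ≤ M →
      (∀ g : G, X.map (MulAut.conj g).toMonoidHom ≤ M →
        ∃ m ∈ M, ∃ c ∈ Subgroup.centralizer (X : Set G), g = m * c) ∧
      Subgroup.normalizer (X : Set G) =
        (M ⊓ Subgroup.normalizer (X : Set G)) ⊔ Subgroup.centralizer (X : Set G))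
    (M : Subgroup G) (hM : IsCoatom M)
    (hHallM : IsPiHallOf (sigma M) (sigmaCore M) M) (hHallG : IsPiHall (sigma M) (sigmaCore M))
    (p : ℕ) [hp : Fact p.Prime] (hpσ : p ∉ sigma M)
    (A : Subgroup G) (hAM : A ≤ M) (hAe : IsElementaryAbelian p A) (hA2 : Nat.card A = p ^ 2)
    (hTH : TransitivityHypothesis A)
    (A₀ : Subgroup G) (hA₀A : A₀ ≤ A) (hA₀ : Nat.card A₀ = p)
    (hN : Subgroup.normalizer (A₀ : Set G) ≤ M) :
    Group.IsNilpotent (sigmaCore M) := by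
  have hpp : p.Prime := hp.out
  have hAp : IsPGroup p A := IsPGroup.of_card hA2
  have hCA : Subgroup.centralizer (A : Set G) ≤ M :=
    ((centralizer_anti hA₀A).trans (centralizer_le_normalizer' A₀)).trans hN
  obtain ⟨R, hR, hAR⟩ := exists_isSylowIn_ge hAp hAM
  obtain ⟨S, hS⟩ := hR.exists_sylow
  have hpM : p ∣ Nat.card M := by
    have h1 : p ∣ Nat.card A := by rw [hA2]; exact dvd_pow_self p two_ne_zero
    exact h1.trans (Subgroup.card_dvd_of_le hAM)
  have hnot : ¬ Subgroup.normalizer (R : Set G) ≤ M := by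
    intro h
    apply hpσ
    exact ⟨hpp, hpM, S, by rw [hS]; exact h⟩
  obtain ⟨g, hgN, hgM⟩ := SetLike.not_le_iff_exists.mp hnot
  have hRg : R.map (MulAut.conj g).toMonoidHom = R := map_conj_eq_of_mem_normalizer hgN
  have hAg : A ≤ M.map (MulAut.conj g).toMonoidHom := by
    calc A ≤ R := hAR
      _ = R.map (MulAut.conj g).toMonoidHom := hRg.symm
      _ ≤ M.map (MulAut.conj g).toMonoidHom := Subgroup.map_mono hR.1
  have hfix := sec11_2b hG h1404 M hM hHallM hHallG p hpσ A hAM hAe hA2 hTH hCA A₀ hN g hgM hAg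
  have hA₀ne : A₀ ≠ ⊥ := by
    intro h
    rw [h, Subgroup.card_bot] at hA₀
    exact hpp.one_lt.ne hA₀
  obtain ⟨⟨a₀, ha₀⟩, ha₀1⟩ := (Subgroup.ne_bot_iff_exists_ne_one).mp hA₀ne
  have ha₀1' : a₀ ≠ 1 := fun h => ha₀1 (Subtype.ext h)
  have hbY : g * a₀ * g⁻¹ ∈ A₀.map (MulAut.conj g).toMonoidHom := conj_mem_map_conj g ha₀
  have hbR : g * a₀ * g⁻¹ ∈ R := by
    rw [← hRg]; exact conj_mem_map_conj g (hAR (hA₀A ha₀))
  have hbM : g * a₀ * g⁻¹ ∈ M := hR.1 hbR
  have hbp : (g * a₀ * g⁻¹) ^ p = 1 := by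
    rw [conj_pow, hAe.2 a₀ (hA₀A ha₀)]; group
  have hb1 : g * a₀ * g⁻¹ ≠ 1 := by
    intro h
    apply ha₀1'
    have h2 : a₀ = g⁻¹ * (g * a₀ * g⁻¹) * g := by group
    rw [h2, h]; group
  have hY : Nat.card (A₀.map (MulAut.conj g).toMonoidHom : Subgroup G) = p := by
    rw [card_map_conj, hA₀]
  have hzp := zpowers_eq_of_card_prime hY hbY hb1
  apply nilpotent_of_fpf_elt (sigmaCore M) (g * a₀ * g⁻¹)
    (Cfsg.Agent.Lib.Helper31.BG.le_normalizer_sigmaCore M hbM) hpp hbp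
  intro y hy hby
  have hyC : y ∈ Subgroup.centralizer
      ((A₀.map (MulAut.conj g).toMonoidHom : Subgroup G) : Set G) := by
    rw [← hzp]
    apply centralizer_singleton_le_zpowers (g * a₀ * g⁻¹)
    rw [Subgroup.mem_centralizer_iff]
    intro h hh
    rw [Set.mem_singleton_iff] at hh
    rw [hh]; exact hby
  have hmem : y ∈ sigmaCore M ⊓ Subgroup.centralizer
      ((A₀.map (MulAut.conj g).toMonoidHom : Subgroup G) : Set G) := ⟨hy, hyC⟩
  rw [hfix] at hmem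
  exact Subgroup.mem_bot.mp hmem

/-! ### BG 11.4 -/

theorem sec11_4 {G : Type*} [Group G] [Finite G] (hG : IsMinSimpleOddOrder G)
    (h1404 : ∀ (M : Subgroup G), IsCoatom M → ∀ (p : ℕ) [Fact p.Prime], p ∈ sigma M →
      ∀ (X : Subgroup G), IsPGroup p X → X ≠ ⊥ → X ≤ M →
      (∀ g : G, X.map (MulAut.conj g).toMonoidHom ≤ M →
        ∃ m ∈ M, ∃ c ∈ Subgroup.centralizer (X : Set G), g = m * c) ∧
      Subgroup.normalizer (X : Set G) =
        (M ⊓ Subgroup.normalizer (X : Set G)) ⊔ Subgroup.centralizer (X : Set G))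
    (M : Subgroup G) (hM : IsCoatom M)
    (hHallM : IsPiHallOf (sigma M) (sigmaCore M) M) (hHallG : IsPiHall (sigma M) (sigmaCore M))
    (p : ℕ) [hp : Fact p.Prime] (hpσ : p ∉ sigma M)
    (A : Subgroup G) (hAM : A ≤ M) (hAe : IsElementaryAbelian p A) (hA2 : Nat.card A = p ^ 2)
    (hTH : TransitivityHypothesis A)
    (A₀ : Subgroup G) (hA₀A : A₀ ≤ A) (hA₀ : Nat.card A₀ = p)
    (hN : Subgroup.normalizer (A₀ : Set G) ≤ M)
    (H : Subgroup G) (hH : IsCoatom H) (hAH : A ≤ H)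
    (hne : sigmaCore M ⊓ sigmaCore H ≠ ⊥) : H = M := by
  have hCA : Subgroup.centralizer (A : Set G) ≤ M :=
    ((centralizer_anti hA₀A).trans (centralizer_le_normalizer' A₀)).trans hN
  have hnil : Group.IsNilpotent (sigmaCore M) :=
    sec11_3 hG h1404 M hM hHallM hHallG p hpσ A hAM hAe hA2 hTH A₀ hA₀A hA₀ hN
  have hcD : Nat.card (sigmaCore M ⊓ sigmaCore H : Subgroup G) ≠ 1 := fun h =>
    hne (Subgroup.card_eq_one.mp h)
  obtain ⟨q, hqp, hqD⟩ := Nat.exists_prime_and_dvd hcD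
  haveI hq : Fact q.Prime := ⟨hqp⟩
  have hqσM : q ∈ sigma M := Cfsg.Agent.Lib.Helper31.BG.sigmaCore_isPi M q hqp
    (hqD.trans (Subgroup.card_dvd_of_le inf_le_left))
  have hqσH : q ∈ sigma H := Cfsg.Agent.Lib.Helper31.BG.sigmaCore_isPi H q hqp
    (hqD.trans (Subgroup.card_dvd_of_le inf_le_right))
  obtain ⟨D₁, hD₁, -⟩ := exists_isSylowIn_ge (p := q) (Q := (⊥ : Subgroup G))
    (H := sigmaCore M ⊓ sigmaCore H) IsPGroup.of_bot bot_le
  have hD₁ne : D₁ ≠ ⊥ := sylIn_ne_bot hD₁ hqD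
  have hD₁q : IsPGroup q D₁ := sylIn_isPGroup hD₁
  have hD₁K : D₁ ≤ sigmaCore M := hD₁.1.trans inf_le_left
  have hD₁H : D₁ ≤ H := (hD₁.1.trans inf_le_right).trans (Cfsg.Agent.Lib.Helper31.BG.sigmaCore_le H)
  have hMK : M ≤ Subgroup.normalizer ((sigmaCore M : Subgroup G) : Set G) :=
    Cfsg.Agent.Lib.Helper31.BG.le_normalizer_sigmaCore M
  obtain ⟨Q, hQ, hD₁Q⟩ := exists_isSylowIn_ge hD₁q hD₁K
  have hQq : IsPGroup q Q := sylIn_isPGroup hQ
  have hKQ : sigmaCore M ≤ Subgroup.normalizer (Q : Set G) :=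
    Cfsg.Agent.Lib.Helper74.BG.le_normalizer_of_isSylowIn_of_nilpotent hnil hQ
  have hMQ : M ≤ Subgroup.normalizer (Q : Set G) := by
    intro m hm
    apply mem_normalizer_of_map_conj_eq
    have hQm : IsSylowIn q (Q.map (MulAut.conj m).toMonoidHom) (sigmaCore M) := by
      have h1 := sylIn_map_conj hQ m
      rwa [map_conj_eq_of_mem_normalizer (hMK hm)] at h1
    have hle : Q ≤ Q.map (MulAut.conj m).toMonoidHom := sylIn_normal_le hQm hQq hQ.1 hKQ
    exact (Subgroup.eq_of_le_of_card_ge hle (by rw [card_map_conj])).symm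
  have hQtop : IsSylowIn q Q ⊤ := sylIn_top_of_sigmaCore hHallG hqσM hQ
  obtain ⟨SH, hSH, hD₁SH⟩ := exists_isSylowIn_ge hD₁q hD₁H
  have hSHtop : IsSylowIn q SH ⊤ := isSylowIn_top_of_sigma hqσH hSH
  obtain ⟨x, -, hQx⟩ := hSHtop.exists_conj hQtop
  have hD₁x : D₁.map (MulAut.conj x⁻¹).toMonoidHom ≤ H := by
    have h1 : D₁.map (MulAut.conj x⁻¹).toMonoidHom ≤
        (SH.map (MulAut.conj x).toMonoidHom).map (MulAut.conj x⁻¹).toMonoidHom :=
      Subgroup.map_mono (hQx ▸ hD₁Q)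
    rw [cj_mul, inv_mul_cancel, cj_one] at h1
    exact h1.trans hSH.1
  obtain ⟨h, hh, c, hc, hxhc⟩ := (h1404 H hH q hqσH D₁ hD₁q hD₁ne hD₁H).1 x⁻¹ hD₁x
  have hcx : c * x = h⁻¹ := by
    have h1 : x = c⁻¹ * h⁻¹ := by
      have h2 := congrArg Inv.inv hxhc
      rw [inv_inv, mul_inv_rev] at h2
      exact h2
    rw [h1]; group
  have hQ₀eq : Q.map (MulAut.conj c).toMonoidHom = SH.map (MulAut.conj h⁻¹).toMonoidHom := by
    rw [hQx, cj_mul, hcx]
  have hQ₀H : IsSylowIn q (Q.map (MulAut.conj c).toMonoidHom) H := by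
    apply sylIn_of_card_eq hSH
    · rw [hQ₀eq]
      rintro _ ⟨y, hy, rfl⟩
      exact H.mul_mem (H.mul_mem (H.inv_mem hh) (hSH.1 hy)) (by simpa using hh)
    · rw [hQ₀eq, card_map_conj]
  have hNQ₀ : Subgroup.normalizer ((Q.map (MulAut.conj c).toMonoidHom : Subgroup G) : Set G) ≤ H :=
    normalizer_le_of_sigma hqσH hQ₀H
  have hMcH : M.map (MulAut.conj c).toMonoidHom ≤ H := by
    refine le_trans ?_ hNQ₀
    rw [normalizer_map_conj]
    exact Subgroup.map_mono hMQ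
  have hMle : M ≤ H.map (MulAut.conj c⁻¹).toMonoidHom := by
    have h1 := Subgroup.map_mono (f := (MulAut.conj c⁻¹).toMonoidHom) hMcH
    rwa [cj_mul, inv_mul_cancel, cj_one] at h1
  have hHc_top : H.map (MulAut.conj c⁻¹).toMonoidHom ≠ ⊤ := by
    intro h1
    apply hH.1
    rw [← Subgroup.card_eq_iff_eq_top, ← card_map_conj H c⁻¹, h1, Subgroup.card_top]
  have hHM : H.map (MulAut.conj c⁻¹).toMonoidHom = M := (hM.le_iff_eq hHc_top).mp hMle
  have hHeq : H = M.map (MulAut.conj c).toMonoidHom := by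
    rw [← hHM, cj_mul, mul_inv_cancel, cj_one]
  by_cases hcM : c ∈ M
  · rw [hHeq]; exact map_conj_eq_of_mem hcM
  · exfalso
    have h2 := sec11_2a hG h1404 M hM hHallM hHallG p hpσ A hAM hAe hA2 hTH hCA c hcM
      (by rw [← hHeq]; exact hAH)
    apply hD₁ne
    rw [eq_bot_iff, ← h2]
    exact le_inf hD₁K (by rw [← hHeq]; exact hD₁H)

/-! ### wrappers: hypotheses in the shape of the frozen statements S1350, S1404, S1408–S1410 -/

/-- The transitivity hypothesis for `A` in the exceptional setting. -/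
theorem exc_th {G : Type*} [Group G] [Finite G] (hG : IsMinSimpleOddOrder G)
    (h1408 : ∀ (M : Subgroup G), IsCoatom M → ∀ (p : ℕ) [Fact p.Prime], p ∉ sigma M →
      PRankLE p 2 M → ¬ PRankLE p 1 M →
      ¬ IsIdealPrime p G ∧ ∀ A : Subgroup G, A ≤ M → IsElementaryAbelian p A →
        Nat.card A = p ^ 2 → ∀ B : Subgroup G, IsElementaryAbelian p B → A ≤ B → B = A)
    (h1409 : ∀ (M : Subgroup G), IsCoatom M → ∀ (p : ℕ) [Fact p.Prime], p ∉ sigma M →
      ∀ (X : Subgroup G), Nat.card X = p → Subgroup.normalizer (X : Set G) ≤ M →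
      (PRankLE p 2 M ∧ ¬ PRankLE p 1 M) ∧ ¬ IsIdealPrime p G ∧
        ∃ A : Subgroup G, IsElementaryAbelian p A ∧ Nat.card A = p ^ 2 ∧ X ≤ A)
    (h1410 : ∀ (p : ℕ) [Fact p.Prime] (H : Subgroup G), H ≠ ⊤ → PLengthLE p 1 H)
    (M : Subgroup G) (hM : IsCoatom M) (p : ℕ) [hp : Fact p.Prime] (hpσ : p ∉ sigma M)
    (A : Subgroup G) (hAM : A ≤ M) (hAe : IsElementaryAbelian p A) (hA2 : Nat.card A = p ^ 2)
    (A₀ : Subgroup G) (hA₀ : Nat.card A₀ = p) (hN : Subgroup.normalizer (A₀ : Set G) ≤ M) :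
    TransitivityHypothesis A := by
  obtain ⟨⟨hr2, hr1⟩, -, -⟩ := h1409 M hM p hpσ A₀ hA₀ hN
  exact transitivityHypothesis_of_max hG p (fun H hH => h1410 p H hH) A hAe hA2
    ((h1408 M hM p hpσ hr2 hr1).2 A hAM hAe hA2)

/-- BG 11.1(b) for Sylow subgroups given as `Sylow q G`. -/
theorem exc_sec11_1b {G : Type*} [Group G] [Finite G] (hG : IsMinSimpleOddOrder G)
    (h1404 : ∀ (M : Subgroup G), IsCoatom M → ∀ (p : ℕ) [Fact p.Prime], p ∈ sigma M →
      ∀ (X : Subgroup G), IsPGroup p X → X ≠ ⊥ → X ≤ M →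
      (∀ g : G, X.map (MulAut.conj g).toMonoidHom ≤ M →
        ∃ m ∈ M, ∃ c ∈ Subgroup.centralizer (X : Set G), g = m * c) ∧
      Subgroup.normalizer (X : Set G) =
        (M ⊓ Subgroup.normalizer (X : Set G)) ⊔ Subgroup.centralizer (X : Set G))
    (h1408 : ∀ (M : Subgroup G), IsCoatom M → ∀ (p : ℕ) [Fact p.Prime], p ∉ sigma M →
      PRankLE p 2 M → ¬ PRankLE p 1 M →
      ¬ IsIdealPrime p G ∧ ∀ A : Subgroup G, A ≤ M → IsElementaryAbelian p A →
        Nat.card A = p ^ 2 → ∀ B : Subgroup G, IsElementaryAbelian p B → A ≤ B → B = A)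
    (h1409 : ∀ (M : Subgroup G), IsCoatom M → ∀ (p : ℕ) [Fact p.Prime], p ∉ sigma M →
      ∀ (X : Subgroup G), Nat.card X = p → Subgroup.normalizer (X : Set G) ≤ M →
      (PRankLE p 2 M ∧ ¬ PRankLE p 1 M) ∧ ¬ IsIdealPrime p G ∧
        ∃ A : Subgroup G, IsElementaryAbelian p A ∧ Nat.card A = p ^ 2 ∧ X ≤ A)
    (h1410 : ∀ (p : ℕ) [Fact p.Prime] (H : Subgroup G), H ≠ ⊤ → PLengthLE p 1 H)
    (M : Subgroup G) (hM : IsCoatom M) (p : ℕ) [hp : Fact p.Prime] (hpσ : p ∉ sigma M)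
    (A : Subgroup G) (hAM : A ≤ M) (hAe : IsElementaryAbelian p A) (hA2 : Nat.card A = p ^ 2)
    (A₀ : Subgroup G) (hA₀A : A₀ ≤ A) (hA₀ : Nat.card A₀ = p)
    (hN : Subgroup.normalizer (A₀ : Set G) ≤ M) :
    ∀ g : G, g ∉ M → ∀ (q : ℕ) [Fact q.Prime] (Q1 Q2 : Subgroup G),
      Q1 ≤ sigmaCore M → Q2 ≤ (sigmaCore M).map (MulAut.conj g).toMonoidHom →
      (∃ S : Sylow q G, (S : Subgroup G) = Q1) → (∃ S : Sylow q G, (S : Subgroup G) = Q2) →
      A ≤ Subgroup.normalizer (Q1 : Set G) → A ≤ Subgroup.normalizer (Q2 : Set G) →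
      ∀ X : Subgroup G, X ≤ A → X ≠ ⊥ →
      Q1 ⊓ Subgroup.centralizer (X : Set G) ≠ ⊥ → Q2 ⊓ Subgroup.centralizer (X : Set G) = ⊥ := by
  intro g hg q _ Q1 Q2 hQ1 hQ2 hS1 hS2 hA1 hA2' X hXA hX h1
  have hTH := exc_th hG h1408 h1409 h1410 M hM p hpσ A hAM hAe hA2 A₀ hA₀ hN
  have hCA : Subgroup.centralizer (A : Set G) ≤ M :=
    ((centralizer_anti hA₀A).trans (centralizer_le_normalizer' A₀)).trans hN
  have key : ∀ Q : Subgroup G, (∃ S : Sylow q G, (S : Subgroup G) = Q) → IsSylowIn q Q ⊤ := by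
    rintro Q ⟨S, rfl⟩
    refine ⟨le_top, ?_⟩
    rw [Subgroup.card_top]
    exact S.card_eq_multiplicity
  exact sec11_1b hG h1404 M hM p hpσ A hAM hAe hA2 hTH hCA g hg q Q1 Q2 hQ1 hQ2 (key Q1 hS1)
    (key Q2 hS2) hA1 hA2' X hXA hX h1

/-- BG 11.2, 11.3, 11.4 for an exceptional quadruple `(M, p, A, A₀)`. -/
theorem exc_sec11 {G : Type*} [Group G] [Finite G] (hG : IsMinSimpleOddOrder G)
    (h1350 : ∀ (M : Subgroup G), IsCoatom M →
      IsPiHallOf (sigma M) (sigmaCore M) M ∧ IsPiHall (sigma M) (sigmaCore M) ∧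
        ∀ N : Subgroup G, M ≤ Subgroup.normalizer (N : Set G) → IsPiHallOf (sigma M) N M →
          N = sigmaCore M)
    (h1404 : ∀ (M : Subgroup G), IsCoatom M → ∀ (p : ℕ) [Fact p.Prime], p ∈ sigma M →
      ∀ (X : Subgroup G), IsPGroup p X → X ≠ ⊥ → X ≤ M →
      (∀ g : G, X.map (MulAut.conj g).toMonoidHom ≤ M →
        ∃ m ∈ M, ∃ c ∈ Subgroup.centralizer (X : Set G), g = m * c) ∧
      Subgroup.normalizer (X : Set G) =
        (M ⊓ Subgroup.normalizer (X : Set G)) ⊔ Subgroup.centralizer (X : Set G))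
    (h1408 : ∀ (M : Subgroup G), IsCoatom M → ∀ (p : ℕ) [Fact p.Prime], p ∉ sigma M →
      PRankLE p 2 M → ¬ PRankLE p 1 M →
      ¬ IsIdealPrime p G ∧ ∀ A : Subgroup G, A ≤ M → IsElementaryAbelian p A →
        Nat.card A = p ^ 2 → ∀ B : Subgroup G, IsElementaryAbelian p B → A ≤ B → B = A)
    (h1409 : ∀ (M : Subgroup G), IsCoatom M → ∀ (p : ℕ) [Fact p.Prime], p ∉ sigma M →
      ∀ (X : Subgroup G), Nat.card X = p → Subgroup.normalizer (X : Set G) ≤ M →
      (PRankLE p 2 M ∧ ¬ PRankLE p 1 M) ∧ ¬ IsIdealPrime p G ∧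
        ∃ A : Subgroup G, IsElementaryAbelian p A ∧ Nat.card A = p ^ 2 ∧ X ≤ A)
    (h1410 : ∀ (p : ℕ) [Fact p.Prime] (H : Subgroup G), H ≠ ⊤ → PLengthLE p 1 H)
    (M : Subgroup G) (hM : IsCoatom M) (p : ℕ) [hp : Fact p.Prime] (hpσ : p ∉ sigma M)
    (A : Subgroup G) (hAM : A ≤ M) (hAe : IsElementaryAbelian p A) (hA2 : Nat.card A = p ^ 2)
    (A₀ : Subgroup G) (hA₀A : A₀ ≤ A) (hA₀ : Nat.card A₀ = p)
    (hN : Subgroup.normalizer (A₀ : Set G) ≤ M) :
    (∀ g : G, g ∉ M → A ≤ M.map (MulAut.conj g).toMonoidHom →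
        sigmaCore M ⊓ M.map (MulAut.conj g).toMonoidHom = ⊥) ∧
    (∀ g : G, g ∉ M → A ≤ M.map (MulAut.conj g).toMonoidHom →
        sigmaCore M ⊓ Subgroup.centralizer
          ((A₀.map (MulAut.conj g).toMonoidHom : Subgroup G) : Set G) = ⊥) ∧
    Group.IsNilpotent (sigmaCore M) ∧
    (∀ H : Subgroup G, IsCoatom H → A ≤ H → sigmaCore M ⊓ sigmaCore H ≠ ⊥ → H = M) := by
  have hTH := exc_th hG h1408 h1409 h1410 M hM p hpσ A hAM hAe hA2 A₀ hA₀ hN
  have hCA : Subgroup.centralizer (A : Set G) ≤ M :=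
    ((centralizer_anti hA₀A).trans (centralizer_le_normalizer' A₀)).trans hN
  obtain ⟨hHallM, hHallG, -⟩ := h1350 M hM
  refine ⟨?_, ?_, ?_, ?_⟩
  · intro g hg hAg
    exact sec11_2a hG h1404 M hM hHallM hHallG p hpσ A hAM hAe hA2 hTH hCA g hg hAg
  · intro g hg hAg
    exact sec11_2b hG h1404 M hM hHallM hHallG p hpσ A hAM hAe hA2 hTH hCA A₀ hN g hg hAg
  · exact sec11_3 hG h1404 M hM hHallM hHallG p hpσ A hAM hAe hA2 hTH A₀ hA₀A hA₀ hN
  · intro H hH hAH hne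
    exact sec11_4 hG h1404 M hM hHallM hHallG p hpσ A hAM hAe hA2 hTH A₀ hA₀A hA₀ hN H hH hAH hne

/-- Consequence of BG 11.2(b): if some `g ∉ M` normalizes `A`, then `A₁ = g A₀ g⁻¹ ≤ A` has order
`p` and acts fixed-point-freely on `M_σ`; in particular `C_{M_σ}(A) = 1`. -/
theorem exc_sec11_fpf {G : Type*} [Group G] [Finite G] (hG : IsMinSimpleOddOrder G)
    (h1350 : ∀ (M : Subgroup G), IsCoatom M →
      IsPiHallOf (sigma M) (sigmaCore M) M ∧ IsPiHall (sigma M) (sigmaCore M) ∧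
        ∀ N : Subgroup G, M ≤ Subgroup.normalizer (N : Set G) → IsPiHallOf (sigma M) N M →
          N = sigmaCore M)
    (h1404 : ∀ (M : Subgroup G), IsCoatom M → ∀ (p : ℕ) [Fact p.Prime], p ∈ sigma M →
      ∀ (X : Subgroup G), IsPGroup p X → X ≠ ⊥ → X ≤ M →
      (∀ g : G, X.map (MulAut.conj g).toMonoidHom ≤ M →
        ∃ m ∈ M, ∃ c ∈ Subgroup.centralizer (X : Set G), g = m * c) ∧
      Subgroup.normalizer (X : Set G) =
        (M ⊓ Subgroup.normalizer (X : Set G)) ⊔ Subgroup.centralizer (X : Set G))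
    (h1408 : ∀ (M : Subgroup G), IsCoatom M → ∀ (p : ℕ) [Fact p.Prime], p ∉ sigma M →
      PRankLE p 2 M → ¬ PRankLE p 1 M →
      ¬ IsIdealPrime p G ∧ ∀ A : Subgroup G, A ≤ M → IsElementaryAbelian p A →
        Nat.card A = p ^ 2 → ∀ B : Subgroup G, IsElementaryAbelian p B → A ≤ B → B = A)
    (h1409 : ∀ (M : Subgroup G), IsCoatom M → ∀ (p : ℕ) [Fact p.Prime], p ∉ sigma M →
      ∀ (X : Subgroup G), Nat.card X = p → Subgroup.normalizer (X : Set G) ≤ M →
      (PRankLE p 2 M ∧ ¬ PRankLE p 1 M) ∧ ¬ IsIdealPrime p G ∧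
        ∃ A : Subgroup G, IsElementaryAbelian p A ∧ Nat.card A = p ^ 2 ∧ X ≤ A)
    (h1410 : ∀ (p : ℕ) [Fact p.Prime] (H : Subgroup G), H ≠ ⊤ → PLengthLE p 1 H)
    (M : Subgroup G) (hM : IsCoatom M) (p : ℕ) [hp : Fact p.Prime] (hpσ : p ∉ sigma M)
    (A : Subgroup G) (hAM : A ≤ M) (hAe : IsElementaryAbelian p A) (hA2 : Nat.card A = p ^ 2)
    (A₀ : Subgroup G) (hA₀A : A₀ ≤ A) (hA₀ : Nat.card A₀ = p)
    (hN : Subgroup.normalizer (A₀ : Set G) ≤ M)
    (g : G) (hg : g ∉ M) (hgA : g ∈ Subgroup.normalizer (A : Set G)) :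
    A₀.map (MulAut.conj g).toMonoidHom ≤ A ∧
    Nat.card (A₀.map (MulAut.conj g).toMonoidHom : Subgroup G) = p ∧
    sigmaCore M ⊓ Subgroup.centralizer
      ((A₀.map (MulAut.conj g).toMonoidHom : Subgroup G) : Set G) = ⊥ ∧
    sigmaCore M ⊓ Subgroup.centralizer (A : Set G) = ⊥ := by
  have hAg : A.map (MulAut.conj g).toMonoidHom = A := map_conj_eq_of_mem_normalizer hgA
  have hle : A₀.map (MulAut.conj g).toMonoidHom ≤ A := by
    calc A₀.map (MulAut.conj g).toMonoidHom ≤ A.map (MulAut.conj g).toMonoidHom :=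
          Subgroup.map_mono hA₀A
      _ = A := hAg
  have hAMg : A ≤ M.map (MulAut.conj g).toMonoidHom := by
    calc A = A.map (MulAut.conj g).toMonoidHom := hAg.symm
      _ ≤ M.map (MulAut.conj g).toMonoidHom := Subgroup.map_mono hAM
  have h2 := (exc_sec11 hG h1350 h1404 h1408 h1409 h1410 M hM p hpσ A hAM hAe hA2 A₀ hA₀A hA₀
    hN).2.1 g hg hAMg
  refine ⟨hle, by rw [card_map_conj, hA₀], h2, ?_⟩
  rw [eq_bot_iff, ← h2]
  exact inf_le_inf le_rfl (centralizer_anti hle)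

end Cfsg.Agent.Lib.Helper25.BG
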