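import Mathlib
import Cfsg.Prelude.Def_OddOrderLocal
import Cfsg.Statements.S1350
import Cfsg.Statements.S1405
import Cfsg.Statements.S1415
import Cfsg.Statements.S1418
import Cfsg.Statements.S1420
import Cfsg.Statements.S1427
import Cfsg.Statements.S1428
import Cfsg.Statements.S1430
import Cfsg.Agent.Lib.Helper25.BG.S1430Defs
import Cfsg.Agent.Lib.Helper25.BG.Sec11
import Cfsg.Agent.Lib.Helper85.BG.Tau1Semiprime
import Cfsg.Agent.Lib.Helper76.BG.S1420Core
import Cfsg.Agent.Lib.Helper67.BG.S1432Core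
import Cfsg.Agent.Lib.Helper67.BG.HallUtil
import Cfsg.Agent.Lib.Helper79.BG.Util2
import Cfsg.Agent.Lib.Helper52.CyclicAux
import Cfsg.Agent.Lib.Helper35.BG.Hall
import Cfsg.Agent.Lib.Helper31.BG.SigmaHall

/-!
Assembly of row 1430 (Bender-Glauberman 14.3 (a),(b)) from three black boxes
(`Hyp1311`, `Hyp1312`, `HypOpenD` of `S1430Defs`) and frozen earlier rows - helper25.

Case II: some subgroup of order `r ∈ τ₃(M)` of a complement `E ⊇ K` centralizes a non-identity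
element of `M_σ`; then `Hyp1311` gives `K = E`, prime action, and `U = 1`.
Case I: otherwise `κ(M) ⊆ τ₁(M)`, `K` lies in a cyclic Hall `τ₁(M)`-subgroup of `E`, and `U` is a
Hall subgroup of `E` over `E'`.
-/

set_option autoImplicit false

namespace Cfsg.Agent.Lib.Helper25.BG30

open Cfsg

open scoped commutatorElement

universe u

variable {G : Type u} [Group G]

/-- A subgroup of order `p ∈ κ(M)` of `M` centralizes a non-identity element of `M_σ`. -/
theorem exists_fixed_of_mem_kappa [Finite G] {M : Subgroup G} {p : ℕ} (hκ : p ∈ kappa M)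
    {x : G} (hxM : x ∈ M) (hx : orderOf x = p) :
    ∃ y ∈ sigmaCore M, y ≠ 1 ∧ x * y = y * x := by
  obtain ⟨hpp, -, -, hcyc⟩ := hκ
  haveI : Fact p.Prime := ⟨hpp⟩
  have hPg : IsPGroup p (Subgroup.zpowers (⟨x, hxM⟩ : M)) := by
    apply IsPGroup.of_card (n := 1)
    rw [Nat.card_zpowers, Subgroup.orderOf_mk, hx, pow_one]
  obtain ⟨P, hP⟩ := hPg.exists_le_sylow
  obtain ⟨hPc, x0, hx0P, hx01, y, hy, hy1, hxy⟩ := hcyc P
  have hxP : (⟨x, hxM⟩ : M) ∈ (P : Subgroup M) := hP (Subgroup.mem_zpowers _)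
  haveI : IsCyclic (P : Subgroup M) := hPc
  have hc1 : Nat.card (Subgroup.zpowers (⟨⟨x, hxM⟩, hxP⟩ : (P : Subgroup M))) = p := by
    rw [Nat.card_zpowers, Subgroup.orderOf_mk, Subgroup.orderOf_mk, hx]
  have hc2 : p ∣ Nat.card (Subgroup.zpowers (⟨x0, hx0P⟩ : (P : Subgroup M))) := by
    rw [Nat.card_zpowers]
    obtain ⟨k, hk⟩ := P.isPGroup' ⟨x0, hx0P⟩
    have h1 : orderOf (⟨x0, hx0P⟩ : (P : Subgroup M)) ∣ p ^ k := orderOf_dvd_of_pow_eq_one hk
    obtain ⟨j, -, hj⟩ := (Nat.dvd_prime_pow hpp).mp h1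
    rw [hj]
    have hj0 : j ≠ 0 := by
      rintro rfl
      rw [pow_zero, orderOf_eq_one_iff] at hj
      exact hx01 (congrArg Subtype.val hj)
    exact dvd_pow_self p hj0
  have hle := Cfsg.Agent.Lib.Helper52.le_of_card_dvd_of_isCyclic
    (Subgroup.zpowers (⟨⟨x, hxM⟩, hxP⟩ : (P : Subgroup M)))
    (Subgroup.zpowers (⟨x0, hx0P⟩ : (P : Subgroup M))) (by rw [hc1]; exact hc2)
  obtain ⟨i, hi⟩ := Subgroup.mem_zpowers_iff.mp (hle (Subgroup.mem_zpowers _))
  have hi' : (x0 : G) ^ i = x := by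
    have := congrArg (fun t : (P : Subgroup M) => ((t : M) : G)) hi
    simpa using this
  refine ⟨y, hy, hy1, ?_⟩
  have hc : Commute (x0 : G) y := hxy
  rw [← hi']
  exact (hc.zpow_left i).eq

/-- A `π`-subgroup of `M` containing a Hall `π`-subgroup of `M` equals it. -/
theorem le_of_isPiHallOf_of_pi [Finite G] {π : Set ℕ} {K M C : Subgroup G}
    (hK : IsPiHallOf π K M) (hKC : K ≤ C) (hCM : C ≤ M)
    (hC : ∀ q : ℕ, q.Prime → q ∣ Nat.card C → q ∈ π) : C ≤ K := by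
  rw [← Subgroup.relIndex_eq_one]
  by_contra hne
  obtain ⟨q, hq, hqd⟩ := Nat.exists_prime_and_dvd hne
  have h1 : q ∣ Nat.card C := hqd.trans (Subgroup.relIndex_dvd_card K C)
  have h2 : K.relIndex C ∣ K.relIndex M :=
    Dvd.intro _ (Subgroup.relIndex_mul_relIndex K C M hKC hCM)
  exact hK.2.2 q hq (hC q hq h1) (hqd.trans h2)

/-- If `E` is a complement of the normal subgroup `N` of `M` and `n = e s ∈ M` normalizes
`Y ≤ E`, then `e` normalizes `Y` and `s` centralizes `Y`. -/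
theorem compl_normalizer_split [Finite G] {M E N Y : Subgroup G} (hE : IsComplIn E N M)
    (hN : M ≤ Subgroup.normalizer (N : Set G)) (hYE : Y ≤ E) {n : G} (hnM : n ∈ M)
    (hn : n ∈ Subgroup.normalizer (Y : Set G)) :
    ∃ e ∈ E, ∃ s ∈ N, n = e * s ∧ e ∈ Subgroup.normalizer (Y : Set G) ∧
      s ∈ Subgroup.centralizer (Y : Set G) := by
  obtain ⟨hEM, hNM, hEN, hdec⟩ := hE
  obtain ⟨e, he, s, hs, rfl⟩ := hdec n hnM
  have hsc : ∀ y ∈ Y, s * y = y * s := by
    intro y hy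
    have hy' : (e * s) * y * (e * s)⁻¹ ∈ Y := (Subgroup.mem_normalizer_iff.mp hn y).mp hy
    have ht1 : s * y * s⁻¹ * y⁻¹ ∈ N := by
      have h1 : y * s⁻¹ * y⁻¹ ∈ N :=
        (Subgroup.mem_normalizer_iff.mp (hN (hEM (hYE hy))) s⁻¹).mp (N.inv_mem hs)
      have h2 : s * y * s⁻¹ * y⁻¹ = s * (y * s⁻¹ * y⁻¹) := by group
      rw [h2]; exact N.mul_mem hs h1
    have ht2 : s * y * s⁻¹ * y⁻¹ ∈ E := by
      have h2 : s * y * s⁻¹ * y⁻¹ = e⁻¹ * ((e * s) * y * (e * s)⁻¹) * e * y⁻¹ := by group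
      rw [h2]
      exact E.mul_mem (E.mul_mem (E.mul_mem (E.inv_mem he) (hYE hy')) he) (E.inv_mem (hYE hy))
    have ht : s * y * s⁻¹ * y⁻¹ ∈ E ⊓ N := ⟨ht2, ht1⟩
    rw [hEN, Subgroup.mem_bot] at ht
    calc s * y = (s * y * s⁻¹ * y⁻¹) * (y * s) := by group
      _ = y * s := by rw [ht, one_mul]
  refine ⟨e, he, s, hs, rfl, ?_, ?_⟩
  · apply Cfsg.Agent.Lib.Helper75.BG.mem_normalizer_of_map_le
    rintro _ ⟨y, hy, rfl⟩
    have hy' : (e * s) * y * (e * s)⁻¹ ∈ Y := (Subgroup.mem_normalizer_iff.mp hn y).mp hy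
    have h2 : (MulAut.conj e).toMonoidHom y = (e * s) * y * (e * s)⁻¹ := by
      show e * y * e⁻¹ = _
      have h3 := hsc y hy
      calc e * y * e⁻¹ = e * (y * s) * s⁻¹ * e⁻¹ := by group
        _ = e * (s * y) * s⁻¹ * e⁻¹ := by rw [h3]
        _ = (e * s) * y * (e * s)⁻¹ := by group
    rw [h2]; exact hy'
  · rw [Subgroup.mem_centralizer_iff]
    intro y hy
    exact (hsc y hy).symm

/-- A subgroup of prime order is generated by an element of that order. -/
theorem exists_gen_of_card_prime [Finite G] {X : Subgroup G} (h : (Nat.card X).Prime) :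
    ∃ x ∈ X, orderOf x = Nat.card X ∧ x ≠ 1 ∧ X = Subgroup.zpowers x := by
  haveI : Fact (Nat.card X).Prime := ⟨h⟩
  obtain ⟨x, hx⟩ := exists_prime_orderOf_dvd_card' (G := X) (Nat.card X) dvd_rfl
  have hx' : orderOf (x : G) = Nat.card X := by rw [Subgroup.orderOf_coe]; exact hx
  refine ⟨x, x.2, hx', ?_, ?_⟩
  · intro h1
    rw [h1, orderOf_one] at hx'
    exact h.one_lt.ne hx'
  · symm
    apply Subgroup.eq_of_le_of_card_ge ((Subgroup.zpowers_le).mpr x.2)
    rw [Nat.card_zpowers, hx']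

theorem exists_ne_one_of_ne_bot {Y : Subgroup G} (h : Y ≠ ⊥) : ∃ y ∈ Y, y ≠ 1 := by
  by_contra hcon
  apply h
  rw [Subgroup.eq_bot_iff_forall]
  intro z hz
  by_contra hz1
  exact hcon ⟨z, hz, hz1⟩

/-- The four structural facts from which the conclusion of row 1430 follows. -/
def Facts1430 (M K E : Subgroup G) : Prop :=
  (∀ k ∈ K, k ≠ 1 → sigmaCore M ⊓ Subgroup.centralizer ({k} : Set G) =
      sigmaCore M ⊓ Subgroup.centralizer (K : Set G)) ∧
  (∀ X : Subgroup G, X ≤ K → (Nat.card X).Prime → K ≤ Subgroup.normalizer (X : Set G)) ∧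
  (∀ Y : Subgroup G, Y ≤ K → Y ≠ ⊥ → E ⊓ Subgroup.normalizer (Y : Set G) ≤ K) ∧
  (∃ U : Subgroup G, IsMulCommutative U ∧
    IsPiHallOf {q | q.Prime ∧ q ∉ kappa M ∧ q ∉ sigma M} U M ∧
    K ≤ Subgroup.normalizer (U : Set G) ∧
    ∀ k ∈ K, k ≠ 1 → U ⊓ Subgroup.centralizer ({k} : Set G) = ⊥)

/-- Clauses (3a), (3b) from the structural facts. -/
theorem clause3_of_facts [Finite G] {M E K : Subgroup G} (hE : IsComplIn E (sigmaCore M) M)
    (hKE : K ≤ E)
    (hU1 : ∀ k ∈ K, k ≠ 1 → sigmaCore M ⊓ Subgroup.centralizer ({k} : Set G) =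
        sigmaCore M ⊓ Subgroup.centralizer (K : Set G))
    (hU2 : ∀ X : Subgroup G, X ≤ K → (Nat.card X).Prime →
      K ≤ Subgroup.normalizer (X : Set G))
    (hU3 : ∀ Y : Subgroup G, Y ≤ K → Y ≠ ⊥ → E ⊓ Subgroup.normalizer (Y : Set G) ≤ K)
    (hK1 : K ≠ ⊥)
    (X : Subgroup G) (hXK : X ≤ K) (hX : (Nat.card X).Prime) :
    M ⊓ Subgroup.normalizer (X : Set G) =
        K ⊔ (sigmaCore M ⊓ Subgroup.centralizer (K : Set G)) ∧
      M ⊓ Subgroup.normalizer (K : Set G) =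
        K ⊔ (sigmaCore M ⊓ Subgroup.centralizer (K : Set G)) := by
  have hN := Cfsg.Agent.Lib.Helper31.BG.le_normalizer_sigmaCore M
  have hKM : K ≤ M := hKE.trans hE.1
  have hX1 : X ≠ ⊥ := by
    intro h
    rw [h, Subgroup.card_bot] at hX
    exact Nat.not_prime_one hX
  obtain ⟨x, hxX, hx1⟩ := exists_ne_one_of_ne_bot hX1
  have hsup : sigmaCore M ⊓ Subgroup.centralizer (K : Set G) ≤ M := inf_le_left.trans hE.2.1
  constructor
  · apply le_antisymm
    · intro n hn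
      obtain ⟨hnM, hnN⟩ := Subgroup.mem_inf.mp hn
      obtain ⟨e, he, s, hs, rfl, heN, hsC⟩ :=
        compl_normalizer_split hE hN (hXK.trans hKE) hnM hnN
      have heK : e ∈ K := hU3 X hXK hX1 ⟨he, heN⟩
      have hsK : s ∈ sigmaCore M ⊓ Subgroup.centralizer (K : Set G) := by
        rw [← hU1 x (hXK hxX) hx1]
        refine Subgroup.mem_inf.mpr ⟨hs, ?_⟩
        rw [Subgroup.mem_centralizer_singleton_iff]
        exact ((Subgroup.mem_centralizer_iff.mp hsC) x hxX).symm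
      exact Subgroup.mul_mem_sup heK hsK
    · apply sup_le
      · exact le_inf hKM (hU2 X hXK hX)
      · refine le_inf hsup ?_
        exact inf_le_right.trans ((Subgroup.centralizer_le (SetLike.coe_subset_coe.mpr hXK)).trans
          (Subgroup.centralizer_le_normalizer (X : Set G)))
  · apply le_antisymm
    · intro n hn
      obtain ⟨hnM, hnN⟩ := Subgroup.mem_inf.mp hn
      obtain ⟨e, he, s, hs, rfl, heN, hsC⟩ := compl_normalizer_split hE hN hKE hnM hnN
      have heK : e ∈ K := hU3 K le_rfl hK1 ⟨he, heN⟩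
      exact Subgroup.mul_mem_sup heK ⟨hs, hsC⟩
    · apply sup_le
      · exact le_inf hKM Subgroup.le_normalizer
      · exact le_inf hsup (inf_le_right.trans (Subgroup.centralizer_le_normalizer (K : Set G)))

/-- Case II: the structural facts from `Hyp1311`. -/
theorem caseII_facts [Finite G] (hG : IsMinSimpleOddOrder G)
    (h1405 : type_of% (@Cfsg.CfsgFrozen.S1405 G _ _ hG))
    (h11 : Hyp1311 G)
    (M : Subgroup G) (hM : IsCoatom M) (hHall : IsPiHallOf (sigma M) (sigmaCore M) M)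
    (K : Subgroup G) (hK : IsPiHallOf (kappa M) K M)
    (E : Subgroup G) (hE : IsComplIn E (sigmaCore M) M) (hKE : K ≤ E)
    (hII : ∃ r ∈ tau3 M, ∃ R : Subgroup G, R ≤ E ∧ Nat.card R = r ∧
      sigmaCore M ⊓ Subgroup.centralizer (R : Set G) ≠ ⊥) :
    Facts1430 M K E := by
  obtain ⟨r, hr, R, hRE, hRcard, hRne⟩ := hII
  obtain ⟨hτ2, hprime, hnorm⟩ := h11 M hM E hE r hr R hRE hRcard hRne
  have hEM : E ≤ M := hE.1
  have hEσ : ∀ q : ℕ, q.Prime → q ∣ Nat.card E → q ∉ sigma M := by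
    intro q hq hdvd hqσ
    apply hHall.2.2 q hq hqσ
    rw [Cfsg.Agent.Lib.Helper35.BG.relIndex_right_of_isComplIn hE]
    exact hdvd
  have hME : ∀ q : ℕ, q.Prime → q ∣ Nat.card M → q ∉ sigma M → q ∣ Nat.card E := by
    intro q hq hdvd hqσ
    rw [Cfsg.Agent.Lib.Helper23.card_of_isComplIn hE] at hdvd
    rcases (Nat.Prime.dvd_mul hq).mp hdvd with h | h
    · exact h
    · exact absurd (Cfsg.Agent.Lib.Helper31.BG.sigmaCore_isPi M q hq h) hqσ
  obtain ⟨y, hy, hy1⟩ : ∃ y ∈ sigmaCore M ⊓ Subgroup.centralizer (E : Set G), y ≠ 1 := by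
    have hR1 : R ≠ ⊥ := by
      intro h
      rw [h, Subgroup.card_bot] at hRcard
      exact hr.1.ne_one hRcard.symm
    obtain ⟨x, hxR, hx1⟩ := exists_ne_one_of_ne_bot hR1
    have h1 : sigmaCore M ⊓ Subgroup.centralizer (R : Set G) ≤
        sigmaCore M ⊓ Subgroup.centralizer (E : Set G) := by
      rw [← hprime x (hRE hxR) hx1]
      refine inf_le_inf_left _ (Subgroup.centralizer_le ?_)
      intro z hz
      rw [Set.mem_singleton_iff] at hz
      rw [hz]; exact hxR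
    obtain ⟨z, hz, hz1⟩ := exists_ne_one_of_ne_bot hRne
    exact ⟨z, h1 hz, hz1⟩
  have hEκ : ∀ q : ℕ, q.Prime → q ∣ Nat.card E → q ∈ kappa M := by
    intro q hq hdvd
    haveI : Fact q.Prime := ⟨hq⟩
    obtain ⟨e, he⟩ := exists_prime_orderOf_dvd_card' (G := E) q hdvd
    have he' : orderOf (e : G) = q := by rw [Subgroup.orderOf_coe]; exact he
    have hey : (e : G) * y = y * e := (Subgroup.mem_centralizer_iff.mp hy.2) e e.2
    rcases Cfsg.Agent.Lib.Helper67.BG.kappa_or_tau2 hG h1405 M hM q hq (hEσ q hq hdvd) e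
      (hEM e.2) he' y hy.1 hy1 hey with h | h
    · exact h
    · rw [hτ2] at h
      exact ((Set.mem_empty_iff_false _).mp h).elim
  have hEK : E ≤ K := le_of_isPiHallOf_of_pi hK hKE hEM hEκ
  have hKeq : K = E := le_antisymm hKE hEK
  subst hKeq
  refine ⟨hprime, fun X hXK hX => hnorm X hXK hX, fun Y _ _ => inf_le_left, ⊥, ?_,
    ⟨bot_le, ?_, ?_⟩, ?_, ?_⟩
  · exact ⟨⟨fun a b => Subtype.ext (by
      rw [Subgroup.coe_mul, Subgroup.coe_mul, Subgroup.mem_bot.mp a.2, Subgroup.mem_bot.mp b.2])⟩⟩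
  · intro p hp hdvd
    rw [Subgroup.card_bot] at hdvd
    exact absurd (Nat.dvd_one.mp hdvd) hp.ne_one
  · intro q hq hqπ hdvd
    rw [Subgroup.relIndex_bot_left] at hdvd
    exact hqπ.2.1 (hEκ q hq (hME q hq hdvd hqπ.2.2))
  · intro k _
    rw [Subgroup.mem_normalizer_iff]
    intro h
    simp [Subgroup.mem_bot]
  · intro k _ _
    exact bot_inf_eq _

/-- Case I: the structural facts from `Hyp1312` and earlier rows. -/
theorem caseI_facts [Finite G] (hG : IsMinSimpleOddOrder G)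
    (h1405 : type_of% (@Cfsg.CfsgFrozen.S1405 G _ _ hG))
    (h1415 : type_of% (@Cfsg.CfsgFrozen.S1415 G _ _ hG))
    (h1418 : type_of% (@Cfsg.CfsgFrozen.S1418 G _ _ hG))
    (h1420 : type_of% (@Cfsg.CfsgFrozen.S1420 G _ _ hG))
    (h1427 : type_of% (@Cfsg.CfsgFrozen.S1427 G _ _ hG))
    (h1428 : type_of% (@Cfsg.CfsgFrozen.S1428 G _ _ hG))
    (h12 : Hyp1312 G)
    (M : Subgroup G) (hM : IsCoatom M) (hHall : IsPiHallOf (sigma M) (sigmaCore M) M)
    (K : Subgroup G) (hK : IsPiHallOf (kappa M) K M) (hK1 : K ≠ ⊥)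
    (E : Subgroup G) (hE : IsComplIn E (sigmaCore M) M) (hKE : K ≤ E)
    (hI : ¬ ∃ r ∈ tau3 M, ∃ R : Subgroup G, R ≤ E ∧ Nat.card R = r ∧
      sigmaCore M ⊓ Subgroup.centralizer (R : Set G) ≠ ⊥) :
    Facts1430 M K E := by
  have hEM : E ≤ M := hE.1
  have hKM : K ≤ M := hK.1
  have hEne : E ≠ ⊤ := fun h => hM.1 (top_le_iff.mp (h ▸ hEM))
  have hsolvE : Group.IsSolvable E := Cfsg.Agent.Lib.Helper35.BG.isSolvable_of_ne_top hG hEne
  have hEσ : ∀ q : ℕ, q.Prime → q ∣ Nat.card E → q ∉ sigma M := by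
    intro q hq hdvd hqσ
    apply hHall.2.2 q hq hqσ
    rw [Cfsg.Agent.Lib.Helper35.BG.relIndex_right_of_isComplIn hE]
    exact hdvd
  have hME : ∀ q : ℕ, q.Prime → q ∣ Nat.card M → q ∉ sigma M → q ∣ Nat.card E := by
    intro q hq hdvd hqσ
    rw [Cfsg.Agent.Lib.Helper23.card_of_isComplIn hE] at hdvd
    rcases (Nat.Prime.dvd_mul hq).mp hdvd with h | h
    · exact h
    · exact absurd (Cfsg.Agent.Lib.Helper31.BG.sigmaCore_isPi M q hq h) hqσ
  -- `κ(M) ⊆ τ₁(M)`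
  have hκτ : ∀ p : ℕ, p ∈ kappa M → p ∈ tau1 M := by
    intro p hpκ
    have hpp : p.Prime := hpκ.1
    haveI : Fact p.Prime := ⟨hpp⟩
    have hr1 : PRankLE p 1 M := Cfsg.Agent.Lib.Helper85.BG.pRankLE_one_of_mem_kappa hpκ
    refine ⟨hpp, hpκ.2.2.1, hpκ.2.1, ?_, hr1⟩
    intro hdvd
    apply hI
    have hpE : p ∣ Nat.card E := hME p hpp hpκ.2.1 hpκ.2.2.1
    obtain ⟨e, he⟩ := exists_prime_orderOf_dvd_card' (G := E) p hpE
    have he' : orderOf (e : G) = p := by rw [Subgroup.orderOf_coe]; exact he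
    obtain ⟨y, hy, hy1, hey⟩ := exists_fixed_of_mem_kappa hpκ (hEM e.2) he'
    refine ⟨p, ⟨hpp, hpκ.2.2.1, hdvd, hr1⟩, Subgroup.zpowers (e : G),
      (Subgroup.zpowers_le).mpr e.2, by rw [Nat.card_zpowers, he'], ?_⟩
    intro hbot
    have hmem : y ∈ sigmaCore M ⊓
        Subgroup.centralizer ((Subgroup.zpowers (e : G) : Subgroup G) : Set G) := by
      refine Subgroup.mem_inf.mpr ⟨hy, ?_⟩
      rw [Cfsg.Agent.Lib.Helper85.BG.centralizer_zpowers_eq_singleton,
        Subgroup.mem_centralizer_singleton_iff]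
      exact hey.symm
    rw [hbot, Subgroup.mem_bot] at hmem
    exact hy1 hmem
  have hKM' : (Nat.card K).Coprime (Nat.card ↥⁅M, M⁆) :=
    Nat.coprime_of_dvd fun q hq h1 h2 => (hκτ q (hK.2.1 q hq h1)).2.2.2.1 h2
  have hKinf : ∀ c : G, c ∈ K → c ∈ ⁅M, M⁆ → c = 1 := by
    intro c h1 h2
    have h3 : c ∈ K ⊓ ⁅M, M⁆ := ⟨h1, h2⟩
    rwa [Subgroup.inf_eq_bot_of_coprime hKM', Subgroup.mem_bot] at h3
  -- a cyclic Hall `τ₁(M)`-subgroup of `E` over `K`
  obtain ⟨E1, hE1, hKE1⟩ := Cfsg.Agent.Lib.Helper67.BG.exists_piHallOf_ge (tau1 M) E hsolvE K hKE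
    (fun p hp hdvd => hκτ p (hK.2.1 p hp hdvd))
  have hsemi := Cfsg.Agent.Lib.Helper85.BG.tau1_semiprime hG h1415 h1427 h1428 M hM E hE E1 hE1
  have hE1c : IsCyclic E1 := (h1415 M hM E hE).2.1 E1 hE1
  have hcomm : ∀ a ∈ K, ∀ b ∈ K, a * b = b * a := by
    obtain ⟨g, hg⟩ := hE1c.exists_generator
    intro a ha b hb
    obtain ⟨i, hi⟩ := Subgroup.mem_zpowers_iff.mp (hg ⟨a, hKE1 ha⟩)
    obtain ⟨j, hj⟩ := Subgroup.mem_zpowers_iff.mp (hg ⟨b, hKE1 hb⟩)
    have hi' : (g : G) ^ i = a := by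
      have := congrArg Subtype.val hi
      simpa using this
    have hj' : (g : G) ^ j = b := by
      have := congrArg Subtype.val hj
      simpa using this
    rw [← hi', ← hj', ← zpow_add, ← zpow_add, add_comm]
  have hU1 : ∀ k ∈ K, k ≠ 1 → sigmaCore M ⊓ Subgroup.centralizer ({k} : Set G) =
      sigmaCore M ⊓ Subgroup.centralizer (K : Set G) := by
    intro k hk hk1
    apply le_antisymm
    · rw [hsemi k (hKE1 hk) hk1]
      exact inf_le_inf_left _ (Subgroup.centralizer_le (SetLike.coe_subset_coe.mpr hKE1))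
    · refine inf_le_inf_left _ (Subgroup.centralizer_le ?_)
      intro z hz
      rw [Set.mem_singleton_iff] at hz
      rw [hz]; exact hk
  have hU2 : ∀ X : Subgroup G, X ≤ K → (Nat.card X).Prime →
      K ≤ Subgroup.normalizer (X : Set G) := by
    intro X hXK _
    refine le_trans ?_ (Subgroup.centralizer_le_normalizer (X : Set G))
    intro k hk
    rw [Subgroup.mem_centralizer_iff]
    intro x hx
    exact hcomm x (hXK hx) k hk
  -- the key lemma
  have key : ∀ x ∈ K, (orderOf x).Prime → ∀ u ∈ E, (orderOf u).Prime → u * x = x * u →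
      orderOf u ∈ kappa M := by
    intro x hx hxp u hu hup hux
    have hpκ : orderOf x ∈ kappa M := hK.2.1 _ hxp (Subgroup.orderOf_dvd_natCard K hx)
    have hpτ := hκτ _ hpκ
    have hrσ : orderOf u ∉ sigma M := hEσ _ hup (Subgroup.orderOf_dvd_natCard E hu)
    obtain ⟨y, hy, hy1, hxy⟩ := exists_fixed_of_mem_kappa hpκ (hKM hx) rfl
    have hRE : Subgroup.zpowers u ≤
        E ⊓ Subgroup.centralizer ((Subgroup.zpowers x : Subgroup G) : Set G) := by
      rw [Subgroup.zpowers_le]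
      refine Subgroup.mem_inf.mpr ⟨hu, ?_⟩
      rw [Cfsg.Agent.Lib.Helper85.BG.centralizer_zpowers_eq_singleton,
        Subgroup.mem_centralizer_singleton_iff]
      exact hux
    have h28 := h1428 M hM E hE (orderOf x) hpτ (Subgroup.zpowers x)
      ((Subgroup.zpowers_le).mpr (hKE hx)) (Nat.card_zpowers x) (Subgroup.zpowers u) hRE
      (by rw [Nat.card_zpowers]; exact hup)
    have hyP : y ∈ sigmaCore M ⊓
        Subgroup.centralizer ((Subgroup.zpowers x : Subgroup G) : Set G) := by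
      refine Subgroup.mem_inf.mpr ⟨hy, ?_⟩
      rw [Cfsg.Agent.Lib.Helper85.BG.centralizer_zpowers_eq_singleton,
        Subgroup.mem_centralizer_singleton_iff]
      exact hxy.symm
    have hyR := h28 hyP
    have huy : u * y = y * u := by
      have h1 := (Subgroup.mem_inf.mp hyR).2
      rw [Cfsg.Agent.Lib.Helper85.BG.centralizer_zpowers_eq_singleton,
        Subgroup.mem_centralizer_singleton_iff] at h1
      exact h1.symm
    rcases Cfsg.Agent.Lib.Helper67.BG.kappa_or_tau2 hG h1405 M hM (orderOf u) hup hrσ u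
      (hEM hu) rfl y hy hy1 huy with h | h
    · exact h
    · exfalso
      haveI : Fact (orderOf u).Prime := ⟨hup⟩
      obtain ⟨A, hAE, hAea, hAcard⟩ := Cfsg.Agent.Lib.Helper79.BG.exists_ea_sq_compl M E hE
        (orderOf u) hrσ h.2.2.1 h.2.2.2
      have h18 := h1418 M hM E hE (orderOf u) h A ⟨hAE, hAea, hAcard⟩
      have hRA : Subgroup.zpowers u ≤ A :=
        h18.1.2 (Subgroup.zpowers u) ((Subgroup.zpowers_le).mpr hu) (Nat.card_zpowers u)
      have hne : A ⊓ Subgroup.centralizer ((Subgroup.zpowers x : Subgroup G) : Set G) ≠ ⊥ := by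
        intro hbot
        have hmem : u ∈ A ⊓ Subgroup.centralizer ((Subgroup.zpowers x : Subgroup G) : Set G) :=
          ⟨hRA (Subgroup.mem_zpowers u), (hRE (Subgroup.mem_zpowers u)).2⟩
        rw [hbot, Subgroup.mem_bot] at hmem
        rw [hmem, orderOf_one] at hup
        exact Nat.not_prime_one hup
      have h12' := h12 M hM E hE (orderOf u) h A hAE hAea hAcard (orderOf x) hpτ
        (Subgroup.zpowers x) ((Subgroup.zpowers_le).mpr (hKE hx)) (Nat.card_zpowers x) hne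
      rw [h12', Subgroup.mem_bot] at hyP
      exact hy1 hyP
  have hCK : ∀ x ∈ K, (orderOf x).Prime → E ⊓ Subgroup.centralizer ({x} : Set G) ≤ K := by
    intro x hx hxp
    apply le_of_isPiHallOf_of_pi hK
    · intro k hk
      refine Subgroup.mem_inf.mpr ⟨hKE hk, ?_⟩
      rw [Subgroup.mem_centralizer_singleton_iff]
      exact hcomm k hk x hx
    · exact inf_le_left.trans hEM
    · intro q hq hdvd
      haveI : Fact q.Prime := ⟨hq⟩
      obtain ⟨u, hu⟩ := exists_prime_orderOf_dvd_card'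
        (G := ↥(E ⊓ Subgroup.centralizer ({x} : Set G))) q hdvd
      have hu' : orderOf (u : G) = q := by rw [Subgroup.orderOf_coe]; exact hu
      have h1 := key x hx hxp (u : G) u.2.1 (by rw [hu']; exact hq)
        (Subgroup.mem_centralizer_singleton_iff.mp u.2.2)
      rwa [hu'] at h1
  have hU3 : ∀ Y : Subgroup G, Y ≤ K → Y ≠ ⊥ → E ⊓ Subgroup.normalizer (Y : Set G) ≤ K := by
    intro Y hYK hY1 e he
    obtain ⟨heE, heN⟩ := Subgroup.mem_inf.mp he
    obtain ⟨y, hyY, hy1⟩ := exists_ne_one_of_ne_bot hY1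
    have hcomm_e : ∀ z ∈ Y, e * z = z * e := by
      intro z hz
      have h1 : e * z * e⁻¹ ∈ Y := (Subgroup.mem_normalizer_iff.mp heN z).mp hz
      have h2 : ⁅e, z⁆ ∈ K := by
        rw [commutatorElement_def]
        exact K.mul_mem (hYK h1) (K.inv_mem (hYK hz))
      have h3 : ⁅e, z⁆ ∈ ⁅M, M⁆ :=
        Subgroup.commutator_mem_commutator (hEM heE) (hKM (hYK hz))
      have h4 := hKinf _ h2 h3
      rw [commutatorElement_def] at h4
      calc e * z = (e * z * e⁻¹ * z⁻¹) * (z * e) := by group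
        _ = z * e := by rw [h4, one_mul]
    obtain ⟨x, hxy, hxp, hx1⟩ := Cfsg.Agent.Lib.Helper85.BG.exists_prime_order_pow hy1
    have hxY : x ∈ Y := ((Subgroup.zpowers_le).mpr hyY) hxy
    apply hCK x (hYK hxY) hxp
    refine Subgroup.mem_inf.mpr ⟨heE, ?_⟩
    rw [Subgroup.mem_centralizer_singleton_iff]
    exact hcomm_e x hxY
  -- the subgroup `U`
  have hE'E : ⁅E, E⁆ ≤ E := Subgroup.commutator_le.mpr (fun a ha b hb => by
    rw [commutatorElement_def]
    exact E.mul_mem (E.mul_mem (E.mul_mem ha hb) (E.inv_mem ha)) (E.inv_mem hb))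
  obtain ⟨U, hU, hE'U⟩ := Cfsg.Agent.Lib.Helper67.BG.exists_piHallOf_ge
    {q | q.Prime ∧ q ∉ kappa M ∧ q ∉ sigma M} E hsolvE ⁅E, E⁆ hE'E (by
      intro q hq hdvd
      refine ⟨hq, ?_, hEσ q hq (hdvd.trans (Subgroup.card_dvd_of_le hE'E))⟩
      intro hqκ
      exact (hκτ q hqκ).2.2.2.1
        (hdvd.trans (Subgroup.card_dvd_of_le (Subgroup.commutator_mono hEM hEM))))
  have hUE : U ≤ E := hU.1
  have hUM : U ≤ M := hUE.trans hEM
  have hEU : E ≤ Subgroup.normalizer (U : Set G) := by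
    intro e he
    apply Cfsg.Agent.Lib.Helper75.BG.mem_normalizer_of_map_le
    rintro _ ⟨u, hu, rfl⟩
    have h1 : ⁅e, u⁆ ∈ U := hE'U (Subgroup.commutator_mem_commutator he (hUE hu))
    have h2 : (MulAut.conj e).toMonoidHom u = ⁅e, u⁆ * u := by
      rw [commutatorElement_def]
      show e * u * e⁻¹ = _
      group
    rw [h2]
    exact U.mul_mem h1 hu
  have hUfix : ∀ k ∈ K, k ≠ 1 → U ⊓ Subgroup.centralizer ({k} : Set G) = ⊥ := by
    intro k hk hk1
    rw [Subgroup.eq_bot_iff_forall]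
    intro u hu
    by_contra hu1
    obtain ⟨huU, huC⟩ := Subgroup.mem_inf.mp hu
    obtain ⟨x, hxk, hxp, hx1⟩ := Cfsg.Agent.Lib.Helper85.BG.exists_prime_order_pow hk1
    obtain ⟨w, hwu, hwp, hw1⟩ := Cfsg.Agent.Lib.Helper85.BG.exists_prime_order_pow hu1
    have hwU : w ∈ U := ((Subgroup.zpowers_le).mpr huU) hwu
    have hxK : x ∈ K := ((Subgroup.zpowers_le).mpr hk) hxk
    have hwx : w * x = x * w := by
      obtain ⟨i, hi⟩ := Subgroup.mem_zpowers_iff.mp hxk
      obtain ⟨j, hj⟩ := Subgroup.mem_zpowers_iff.mp hwu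
      have hc : Commute u k := Subgroup.mem_centralizer_singleton_iff.mp huC
      rw [← hi, ← hj]
      exact (hc.zpow_zpow j i).eq
    have hκ := key x hxK hxp w (hUE hwU) hwp hwx
    exact (hU.2.1 _ hwp (Subgroup.orderOf_dvd_natCard U hwU)).2.1 hκ
  have hUnil : Group.IsNilpotent U := by
    obtain ⟨k, hk, hk1⟩ := exists_ne_one_of_ne_bot hK1
    obtain ⟨x, hxk, hxp, hx1⟩ := Cfsg.Agent.Lib.Helper85.BG.exists_prime_order_pow hk1
    have hxK : x ∈ K := ((Subgroup.zpowers_le).mpr hk) hxk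
    refine Cfsg.Agent.Lib.Helper25.BG.nilpotent_of_fpf_elt U x (hEU (hKE hxK)) hxp
      (pow_orderOf_eq_one x) ?_
    intro y hy hxy
    have h1 : y ∈ U ⊓ Subgroup.centralizer ({x} : Set G) := by
      refine Subgroup.mem_inf.mpr ⟨hy, ?_⟩
      rw [Subgroup.mem_centralizer_singleton_iff]
      exact hxy.symm
    rwa [hUfix x hxK hx1, Subgroup.mem_bot] at h1
  have hUab : IsMulCommutative U := (h1420 M hM E hE).1 U hUM hUnil
    (fun q hq hdvd => (hU.2.1 q hq hdvd).2.2)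
  refine ⟨hU1, hU2, hU3, U, hUab, ⟨hUM, hU.2.1, ?_⟩, hKE.trans hEU, hUfix⟩
  intro q hq hqπ hdvd
  rw [← Subgroup.relIndex_mul_relIndex U E M hUE hEM] at hdvd
  rcases (Nat.Prime.dvd_mul hq).mp hdvd with h | h
  · exact hU.2.2 q hq hqπ h
  · rw [Cfsg.Agent.Lib.Helper35.BG.relIndex_left_of_isComplIn hE] at h
    exact hqπ.2.2 (Cfsg.Agent.Lib.Helper31.BG.sigmaCore_isPi M q hq h)

/-- **Row 1430 from the three black boxes.** -/
theorem s1430_of [Finite G] (hG : IsMinSimpleOddOrder G)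
    (h1350 : type_of% (@Cfsg.CfsgFrozen.S1350 G _ _ hG))
    (h1405 : type_of% (@Cfsg.CfsgFrozen.S1405 G _ _ hG))
    (h1415 : type_of% (@Cfsg.CfsgFrozen.S1415 G _ _ hG))
    (h1418 : type_of% (@Cfsg.CfsgFrozen.S1418 G _ _ hG))
    (h1420 : type_of% (@Cfsg.CfsgFrozen.S1420 G _ _ hG))
    (h1427 : type_of% (@Cfsg.CfsgFrozen.S1427 G _ _ hG))
    (h1428 : type_of% (@Cfsg.CfsgFrozen.S1428 G _ _ hG))
    (h11 : Hyp1311 G) (h12 : Hyp1312 G) (hD : HypOpenD G) :
    type_of% (@Cfsg.CfsgFrozen.S1430 G _ _ hG) := by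
  intro M hM K hK hK1
  have hHall : IsPiHallOf (sigma M) (sigmaCore M) M := (h1350 M hM).1
  have hKσ : ∀ q : ℕ, q.Prime → q ∣ Nat.card K → q ∉ sigma M :=
    fun q hq hdvd => (hK.2.1 q hq hdvd).2.2.1
  obtain ⟨E, hE, hKE⟩ :=
    Cfsg.Agent.Lib.Helper76.BG.exists_compl_ge hG M hM hHall K hK.1 hKσ
  have hfacts : Facts1430 M K E := by
    by_cases hII : ∃ r ∈ tau3 M, ∃ R : Subgroup G, R ≤ E ∧ Nat.card R = r ∧
        sigmaCore M ⊓ Subgroup.centralizer (R : Set G) ≠ ⊥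
    · exact caseII_facts hG h1405 h11 M hM hHall K hK E hE hKE hII
    · exact caseI_facts hG h1405 h1415 h1418 h1420 h1427 h1428 h12 M hM hHall K hK hK1 E hE
        hKE hII
  obtain ⟨hU1, hU2, hU3, hU5⟩ := hfacts
  refine ⟨hU1, hU5, ?_⟩
  intro X hXK hX
  obtain ⟨h3a, h3b⟩ := clause3_of_facts hE hKE hU1 hU2 hU3 hK1 X hXK hX
  refine ⟨h3a, h3b, ?_⟩
  intro Mstar hMstar hN
  obtain ⟨x, hxX, hxo, hx1, hXeq⟩ := exists_gen_of_card_prime hX
  have hpκ : Nat.card X ∈ kappa M := hK.2.1 _ hX (Subgroup.card_dvd_of_le hXK)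
  obtain ⟨y, hy, hy1, hxy⟩ := exists_fixed_of_mem_kappa hpκ (hK.1 (hXK hxX)) hxo
  refine hD M hM (Nat.card X) hX hpκ.2.2.1
    (Cfsg.Agent.Lib.Helper85.BG.pRankLE_one_of_mem_kappa hpκ) X (hXK.trans hK.1) rfl ?_
    Mstar hMstar hN
  intro hbot
  have hmem : y ∈ sigmaCore M ⊓ Subgroup.centralizer (X : Set G) := by
    refine Subgroup.mem_inf.mpr ⟨hy, ?_⟩
    have h1 : y ∈ Subgroup.centralizer ((Subgroup.zpowers x : Subgroup G) : Set G) := by
      rw [Cfsg.Agent.Lib.Helper85.BG.centralizer_zpowers_eq_singleton,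
        Subgroup.mem_centralizer_singleton_iff]
      exact hxy.symm
    rw [hXeq]
    exact h1
  rw [hbot, Subgroup.mem_bot] at hmem
  exact hy1 hmem

end Cfsg.Agent.Lib.Helper25.BG30
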